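import Cfsg.Agent.Spor.Chk

set_option autoImplicit false
set_option maxRecDepth 100000000
set_option Elab.async false
noncomputable section

namespace Cfsg.Agent.Spor.Y332A1

def n0 : Net := Net.nil

def n1 : Net := Net.nil

def n2 : Net := Net.nil

def n3 : Net := Net.nil

def n4 : Net := Net.nil

def n5 : Net := Net.nil

def n6 : Net := Net.nil

def n7 : Net := Net.nil

def n8 : Net := Net.nil

def ip1 : List Nat := []
def l1 : Let := ⟨0, false, 0x1, 0x0, [0x0]⟩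

def ip2 : List Nat := []
def l2 : Let := ⟨1, false, 0x1, 0x0, [0x0]⟩

def ip3 : List Nat := []
def l3 : Let := ⟨2, false, 0x1, 0x0, [0x0]⟩

def ip4 : List Nat := []
def l4 : Let := ⟨3, false, 0x1, 0x0, [0x0]⟩

def ip5 : List Nat := []
def l5 : Let := ⟨4, false, 0x1, 0x0, [0x0]⟩

def ip6 : List Nat := []
def l6 : Let := ⟨5, false, 0x1, 0x0, [0x0]⟩

def ip7 : List Nat := []
def l7 : Let := ⟨6, false, 0x1, 0x0, [0x0]⟩

def ip8 : List Nat := []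
def l8 : Let := ⟨7, false, 0x1, 0x0, [0x0]⟩

def ip9 : List Nat := []
def l9 : Let := ⟨8, false, 0x1, 0x0, [0x0]⟩

def F : Nat := nat_lit 0x90000000000000001500015080001500000080000000000000001400014040001400000070000000000000001300013060001300000060000000000000001200012050001200000050000000000000001100011040001100000040000000000000001000010030001000000030000000000000000f0000f020000f00000020000000000000000e0000e010000e00000010000000000000000100001080000000000000000700001000000d0000d040000700000080000d00001060000000000000000600001000000c0000c050000600000060000c00001050000000000000000500001000000b0000b040000500000050000b00001040000000000000000400001000000a0000a030000400000040000a0000103000000000000000030000100000090000902000030000003000090000002000010000100000080000000000020000002000080001509000000001408000000001307000000001206000000001105000000001004000000000f03000000000e02000000000d01000070000c01000060000b01000050000a0100004000090100003000080100002000070800001000060600001000050500001000040400001000030300001000020200001000010100000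

def rt0_9 : RTree := RTree.node 0x505 ⟨[5, 5], [], 74, false⟩ (RTree.node 0x303 ⟨[3, 3], [], 74, false⟩ (RTree.node 0x202 ⟨[2, 2], [], 74, false⟩ (RTree.node 0x101 ⟨[1, 1], [], 74, false⟩ (RTree.leaf) (RTree.leaf)) (RTree.leaf)) (RTree.node 0x404 ⟨[4, 4], [], 74, false⟩ (RTree.leaf) (RTree.leaf))) (RTree.node 0x808 ⟨[8, 8], [], 74, false⟩ (RTree.node 0x707 ⟨[7, 7], [], 74, false⟩ (RTree.node 0x606 ⟨[6, 6], [], 74, false⟩ (RTree.leaf) (RTree.leaf)) (RTree.leaf)) (RTree.node 0x909 ⟨[9, 9], [], 74, false⟩ (RTree.leaf) (RTree.leaf)))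
def rt10_18 : RTree := RTree.node 0x4010401 ⟨[4, 1, 4, 1], [], 2, true⟩ (RTree.node 0x3010301 ⟨[3, 1, 3, 1], [], 1, true⟩ (RTree.node 0x2030203 ⟨[2, 3, 2, 3], [], 46, false⟩ (RTree.node 0x2010201 ⟨[2, 1, 2, 1], [], 38, true⟩ (RTree.leaf) (RTree.leaf)) (RTree.leaf)) (RTree.node 0x3040304 ⟨[3, 4, 3, 4], [], 53, false⟩ (RTree.leaf) (RTree.leaf))) (RTree.node 0x4080408 ⟨[4, 8, 4, 8], [], 62, false⟩ (RTree.node 0x4050405 ⟨[4, 5, 4, 5], [], 59, false⟩ (RTree.leaf) (RTree.leaf)) (RTree.node 0x5010501 ⟨[5, 1, 5, 1], [], 3, true⟩ (RTree.leaf) (RTree.leaf)))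
def rt0_18 : RTree := RTree.node 0x1020102 ⟨[1, 2, 1, 2], [], 38, false⟩ (rt0_9) (rt10_18)
def rt19_28 : RTree := RTree.node 0x20102010201 ⟨[2, 1, 2, 1, 2, 1], [], 0, true⟩ (RTree.node 0x8010801 ⟨[8, 1, 8, 1], [], 6, true⟩ (RTree.node 0x6070607 ⟨[6, 7, 6, 7], [], 68, false⟩ (RTree.node 0x6010601 ⟨[6, 1, 6, 1], [], 4, true⟩ (RTree.leaf) (RTree.leaf)) (RTree.leaf)) (RTree.node 0x8090809 ⟨[8, 9, 8, 9], [], 73, false⟩ (RTree.leaf) (RTree.leaf))) (RTree.node 0x30403040304 ⟨[3, 4, 3, 4, 3, 4], [], 15, false⟩ (RTree.node 0x30203020302 ⟨[3, 2, 3, 2, 3, 2], [], 8, true⟩ (RTree.node 0x20302030203 ⟨[2, 3, 2, 3, 2, 3], [], 8, false⟩ (RTree.leaf) (RTree.leaf)) (RTree.leaf)) (RTree.node 0x40304030403 ⟨[4, 3, 4, 3, 4, 3], [], 15, true⟩ (RTree.leaf) (RTree.leaf)))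
def rt29_37 : RTree := RTree.node 0x70607060706 ⟨[7, 6, 7, 6, 7, 6], [], 30, true⟩ (RTree.node 0x50605060506 ⟨[5, 6, 5, 6, 5, 6], [], 26, false⟩ (RTree.node 0x50405040504 ⟨[5, 4, 5, 4, 5, 4], [], 21, true⟩ (RTree.node 0x40804080408 ⟨[4, 8, 4, 8, 4, 8], [], 24, false⟩ (RTree.leaf) (RTree.leaf)) (RTree.leaf)) (RTree.node 0x60506050605 ⟨[6, 5, 6, 5, 6, 5], [], 26, true⟩ (RTree.leaf) (RTree.leaf))) (RTree.node 0x90809080908 ⟨[9, 8, 9, 8, 9, 8], [], 35, true⟩ (RTree.node 0x80408040804 ⟨[8, 4, 8, 4, 8, 4], [], 24, true⟩ (RTree.leaf) (RTree.leaf)) (RTree.node 0x80605040302010806050403020108060504030201080605040302010806050403020108060504030201080605040302010806050403020108060504030201 ⟨[8, 6, 5, 4, 3, 2, 1, 8, 6, 5, 4, 3, 2, 1, 8, 6, 5, 4, 3, 2, 1, 8, 6, 5, 4, 3, 2, 1, 8, 6, 5, 4, 3, 2, 1, 8, 6, 5, 4, 3, 2, 1, 8, 6, 5, 4, 3, 2, 1, 8, 6, 5, 4, 3, 2, 1, 8, 6, 5, 4, 3, 2, 1], [], 37,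 true⟩ (RTree.leaf) (RTree.leaf)))
def rt19_37 : RTree := RTree.node 0x40504050405 ⟨[4, 5, 4, 5, 4, 5], [], 21, false⟩ (rt19_28) (rt29_37)
def rt0_37 : RTree := RTree.node 0x5060506 ⟨[5, 6, 5, 6], [], 64, false⟩ (rt0_18) (rt19_37)
def RT : RTree := rt0_37

def NT : List Net := [n0, n1, n2, n3, n4, n5, n6, n7, n8]
def LT : List Let := [⟨0, false, 0, 0, []⟩, l1, l2, l3, l4, l5, l6, l7, l8, l9]
def T : Tab := ⟨NT, LT⟩
def EX : List (List Nat) := [[], [0], [2], [4], [6], [8], [10], [12], [14], [16]]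
def RL : List (List Nat) := [[0, 2, 0, 2, 0, 2], [0, 4, 0, 4], [0, 6, 0, 6], [0, 8, 0, 8], [0, 10, 0, 10], [0, 12, 0, 12], [0, 14, 0, 14], [0, 16, 0, 16], [2, 4, 2, 4, 2, 4], [2, 6, 2, 6], [2, 8, 2, 8], [2, 10, 2, 10], [2, 12, 2, 12], [2, 14, 2, 14], [2, 16, 2, 16], [4, 6, 4, 6, 4, 6], [4, 8, 4, 8], [4, 10, 4, 10], [4, 12, 4, 12], [4, 14, 4, 14], [4, 16, 4, 16], [6, 8, 6, 8, 6, 8], [6, 10, 6, 10], [6, 12, 6, 12], [6, 14, 6, 14, 6, 14], [6, 16, 6, 16], [8, 10, 8, 10, 8, 10], [8, 12, 8, 12], [8, 14, 8, 14], [8, 16, 8, 16], [10, 12, 10, 12, 10, 12], [10, 14, 10, 14], [10, 16, 10, 16], [12, 14, 12, 14], [12, 16, 12, 16], [14, 16, 14, 16, 14, 16], [6, 4, 2, 6, 8, 10, 6, 14, 16, 6, 4, 2, 6, 8, 10, 6, 14, 16, 6, 4, 2, 6, 8, 10, 6, 14, 16, 6, 4, 2, 6, 8, 10, 6, 14, 16, 6, 4, 2, 6, 8, 10, 6, 14, 16, 6, 4, 2, 6, 8, 10, 6, 14, 16, 6, 4, 2, 6, 8, 10, 6, 14, 16, 6, 4, 2, 6, 8, 10, 6, 14,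 16, 6, 4, 2, 6, 8, 10, 6, 14, 16, 6, 4, 2, 6, 8, 10, 6, 14, 16], [0, 2, 4, 6, 8, 10, 14, 0, 2, 4, 6, 8, 10, 14, 0, 2, 4, 6, 8, 10, 14, 0, 2, 4, 6, 8, 10, 14, 0, 2, 4, 6, 8, 10, 14, 0, 2, 4, 6, 8, 10, 14, 0, 2, 4, 6, 8, 10, 14, 0, 2, 4, 6, 8, 10, 14, 0, 2, 4, 6, 8, 10, 14], [0, 2, 0, 2], [0, 4, 0, 4], [0, 6, 0, 6], [0, 8, 0, 8], [0, 10, 0, 10], [0, 12, 0, 12], [0, 14, 0, 14], [0, 16, 0, 16], [2, 4, 2, 4], [2, 6, 2, 6], [2, 8, 2, 8], [2, 10, 2, 10], [2, 12, 2, 12], [2, 14, 2, 14], [2, 16, 2, 16], [4, 6, 4, 6], [4, 8, 4, 8], [4, 10, 4, 10], [4, 12, 4, 12], [4, 14, 4, 14], [4, 16, 4, 16], [6, 8, 6, 8], [6, 10, 6, 10], [6, 12, 6, 12], [6, 14, 6, 14], [6, 16, 6, 16], [8, 10, 8, 10], [8, 12, 8, 12], [8, 14, 8, 14], [8, 16, 8, 16], [10, 12, 10, 12], [10, 14, 10, 14], [10, 16, 10, 16], [12, 14, 12, 14], [12, 16, 12, 16], [14, 16, 14, 16]]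
def XL : List (List Nat) := []
def BW : List (List Nat) := []
def IV : Nat := 0x9080706050403020100
def L : List Nat := [1, 2, 3, 4, 5, 6, 7, 8, 9]
def gs : List Nat := [1, 2, 3, 4, 5, 6, 7, 8, 9]
def base : List Nat := []

end Cfsg.Agent.Spor.Y332A1
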